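import Groth.Agent.EtFinPush.Nbhd
import Mathlib

/-!
Étale coverings of a scheme finite over a base are refined by étale coverings of the base.
-/

set_option autoImplicit false
set_option backward.isDefEq.respectTransparency false
set_option backward.defeqAttrib.useBackward true
set_option linter.style.haveILetI false

open AlgebraicGeometry CategoryTheory Limits

universe u

namespace Groth.Agent.EtFinRefine

open Groth.Agent.EtaleSplit Groth.Agent.EtLocalLib

theorem finite_gpts {Ω : Type u} [Field Ω] [IsAlgClosed Ω] {X Y : Scheme.{u}} (f : X ⟶ Y) [IsFinite f]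
    (q : Spec (.of Ω) ⟶ Y) : Finite (GPts f q) := by
  have h := finite_gpts_over f q Set.univ
    ((f.finite_preimage_singleton (pt q)).subset fun x hx => hx.2)
  exact Set.finite_univ_iff.1 (h.subset fun p _ => Set.mem_univ (pt p.1))

/-- An étale surjection onto a scheme finite over `Y` has sections étale locally on `Y`. -/
theorem exists_etale_refine {X Y U : Scheme.{u}} (f : X ⟶ Y) [IsFinite f] (h : U ⟶ X) [Etale h] [Surjective h]
    (y : Y) :
    ∃ (T : Scheme.{u}) (g : T ⟶ Y), Etale g ∧ y ∈ Set.range g.base ∧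
      ∃ ψ : pullback g f ⟶ U, ψ ≫ h = pullback.snd g f := by
  obtain ⟨Ω, _, _, q, hq⟩ := Groth.Agent.QuotLib.exists_geom_point y
  haveI := finite_gpts f q
  haveI : LocallyQuasiFinite h := lqf_of_unramified h
  haveI : LocallyQuasiFinite (h ≫ f) := EtFinPush.lqf_of_etale_finite h f
  have hlift : ∀ p : GPts f q, ∃ r : GPts (h ≫ f) q, r.1 ≫ h = p.1 := fun p => by
    obtain ⟨u₀, hu₀⟩ := h.surjective (pt p.1)
    obtain ⟨r, -⟩ := exists_gpt h p.1 u₀ hu₀
    exact ⟨⟨r.1, by rw [reassoc_of% r.2, p.2]⟩, r.2⟩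
  choose P hP using hlift
  obtain ⟨T, g, qT, hqT, V, hg, hV⟩ := exists_split (h ≫ f) q P (fun _ => ⊤)
    (fun _ => trivial) (fun _ => (h ≫ f).quasiFiniteAt _)
  haveI := hg
  let f₁ : pullback g f ⟶ T := pullback.fst g f
  let a : pullback (h ≫ f) g ⟶ pullback g f :=
    pullback.lift (pullback.snd _ _) (pullback.fst _ _ ≫ h) (by rw [Category.assoc, pullback.condition])
  have ha : IsPullback (pullback.fst (h ≫ f) g) a h (pullback.snd g f) := by
    refine IsPullback.of_bot ?_ (pullback.lift_snd _ _ _).symm (IsPullback.of_hasPullback g f).flip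
    simp only [a, pullback.lift_fst]
    exact IsPullback.of_hasPullback (h ≫ f) g
  haveI : Etale a := MorphismProperty.of_isPullback ha inferInstance
  let r₀ : ∀ p : GPts f q, GPts f₁ qT := fun p =>
    ⟨pullback.lift qT p.1 (hqT.trans p.2.symm), pullback.lift_fst _ _ _⟩
  have hN : ∀ p : GPts f q, ∃ (N : (pullback g f).Opens) (σ : N.toScheme ⟶ U),
      pt (r₀ p).1 ∈ N ∧ σ ≫ h = N.ι ≫ pullback.snd g f := by
    intro p
    obtain ⟨hfin, -, hmem, huniq⟩ := hV p
    haveI := hfin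
    let b : (V p).toScheme ⟶ pullback g f := (V p).ι ≫ a
    have hb : b ≫ pullback.fst g f = (V p).ι ≫ pullback.snd (h ≫ f) g := by simp [b, a]
    haveI : IsFinite (b ≫ pullback.fst g f) := by rw [hb]; infer_instance
    haveI : IsFinite b := IsFinite.of_comp b (pullback.fst g f)
    haveI : Etale b := inferInstance
    let p₀ : Spec (.of Ω) ⟶ pullback (h ≫ f) g := pullback.lift (P p).1 qT ((P p).2.trans hqT.symm)
    have hp₀ : p₀ ≫ a = (r₀ p).1 := by
      apply pullback.hom_ext <;> simp [p₀, a, r₀, hP p]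
    have hu : ∀ s s' : GPts b (r₀ p).1, s.1 = s'.1 := by
      have key : ∀ s : GPts b (r₀ p).1, s.1 ≫ (V p).ι = p₀ := fun s => by
        refine huniq ⟨s.1 ≫ (V p).ι, ?_⟩ ?_
        · rw [Category.assoc, ← hb, reassoc_of% s.2, (r₀ p).2]
        · rw [pt_comp]
          exact (s.1 (IsLocalRing.closedPoint Ω)).2
      exact fun s s' => (cancel_mono (V p).ι).1 ((key s).trans (key s').symm)
    obtain ⟨N, hNmem, hNiso⟩ := exists_good_nbhd b (r₀ p).1 hu
      ⟨⟨pt p₀, hmem⟩, by rw [← hp₀, pt_comp]; rfl⟩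
    haveI : IsIso (b ∣_ N) :=
      (hNiso N.ι ((b ⁻¹ᵁ N).ι) (b ∣_ N) (isPullback_morphismRestrict b N).flip
        (by rw [Scheme.Opens.range_ι])).2 inferInstance
    refine ⟨N, inv (b ∣_ N) ≫ (b ⁻¹ᵁ N).ι ≫ (V p).ι ≫ pullback.fst (h ≫ f) g, hNmem, ?_⟩
    have h2 : inv (b ∣_ N) ≫ (b ⁻¹ᵁ N).ι ≫ b = N.ι := by
      rw [← morphismRestrict_ι, IsIso.inv_hom_id_assoc]
    simp only [Category.assoc, ha.w]
    simpa [b, Category.assoc] using congrArg (· ≫ pullback.snd g f) h2
  choose N σ hNmem hσ using hN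
  haveI : IsFinite f₁ := inferInstanceAs (IsFinite (pullback.fst g f))
  have hinj : Function.Injective r₀ := fun p p' e => by
    apply Subtype.ext
    simpa [r₀] using congrArg (fun r : GPts f₁ qT => r.1 ≫ pullback.snd g f) e
  obtain ⟨T', g', qT', hqT', V', hg', hclosed, hdisj, hV'⟩ :=
    exists_split_separated f₁ qT r₀ hinj (fun _ => f₁.quasiFiniteAt _)
  haveI := hg'
  let m : pullback f₁ g' ⟶ pullback g f := pullback.fst _ _
  let f₂ : pullback f₁ g' ⟶ T' := pullback.snd _ _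
  haveI : IsFinite f₂ := MorphismProperty.pullback_snd _ _ inferInstance
  let O : GPts f q → (pullback f₁ g').Opens := fun p => V' p ⊓ m ⁻¹ᵁ N p
  let C : Set T' := f₂ '' (⋃ p, (O p : Set ↑(pullback f₁ g')))ᶜ
  have hC : IsClosed C := f₂.isClosedMap _ (isOpen_iUnion fun p => (O p).2).isClosed_compl
  have ht : pt qT' ∉ C := by
    rintro ⟨w, hw, hwt⟩
    obtain ⟨r, hr⟩ := exists_gpt f₂ qT' w hwt
    let p : GPts f q := ⟨(r.1 ≫ m) ≫ pullback.snd g f, by
      rw [Category.assoc, Category.assoc, ← pullback.condition, ← Category.assoc m]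
      show r.1 ≫ (m ≫ f₁) ≫ g = q
      rw [show m ≫ f₁ = f₂ ≫ g' from pullback.condition, Category.assoc, reassoc_of% r.2, reassoc_of% hqT', hqT]⟩
    have hrm : r.1 ≫ m = (r₀ p).1 := by
      apply pullback.hom_ext
      · rw [Category.assoc]
        show r.1 ≫ m ≫ f₁ = _
        rw [show m ≫ f₁ = f₂ ≫ g' from pullback.condition, reassoc_of% r.2, hqT']
        simp [r₀]
      · simp [r₀, p]
    have hrl : r.1 = pullback.lift (r₀ p).1 qT' ((r₀ p).2.trans hqT'.symm) := by
      apply pullback.hom_ext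
      · rw [pullback.lift_fst]; exact hrm
      · rw [pullback.lift_snd]; exact r.2
    refine hw (Set.mem_iUnion.2 ⟨p, ?_, ?_⟩)
    · rw [← hr, hrl]; exact (hV' p).2.1
    · show m w ∈ N p
      rw [← hr, ← pt_comp, hrm]; exact hNmem p
  let T'' : T'.Opens := ⟨Cᶜ, hC.isOpen_compl⟩
  let e : pullback (T''.ι ≫ g' ≫ g) f ⟶ pullback f₁ g' :=
    pullback.lift (pullback.lift (pullback.fst _ _ ≫ T''.ι ≫ g') (pullback.snd _ _)
      (by simp only [Category.assoc]; rw [pullback.condition])) (pullback.fst _ _ ≫ T''.ι) (by simp [f₁])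
  let 𝒱 : GPts f q → (pullback (T''.ι ≫ g' ≫ g) f).Opens := fun p => e ⁻¹ᵁ O p
  have hsup : ⨆ p, 𝒱 p = ⊤ := by
    rw [eq_top_iff]
    intro z _
    by_contra hz
    simp only [TopologicalSpace.Opens.mem_iSup, not_exists] at hz
    have : f₂ (e z) ∈ C := ⟨e z, fun h' => by
      obtain ⟨p, hp⟩ := Set.mem_iUnion.1 h'
      exact hz p hp, rfl⟩
    refine (pullback.fst (T''.ι ≫ g' ≫ g) f z).2 ?_
    have he : e ≫ f₂ = pullback.fst _ _ ≫ T''.ι := pullback.lift_snd _ _ _
    rwa [← Scheme.Hom.comp_apply, he] at this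
  let τ : ∀ p, (𝒱 p).toScheme ⟶ U := fun p => IsOpenImmersion.lift (N p).ι ((𝒱 p).ι ≫ e ≫ m) (by
    rintro _ ⟨z, rfl⟩
    rw [Scheme.Opens.range_ι]
    exact z.2.2) ≫ σ p
  have hτ : ∀ p, τ p ≫ h = (𝒱 p).ι ≫ pullback.snd _ f := fun p => by
    simp only [τ, Category.assoc, hσ]
    rw [IsOpenImmersion.lift_fac_assoc]
    simp [e, m]
  let 𝒰 := (pullback (T''.ι ≫ g' ≫ g) f).openCoverOfIsOpenCover 𝒱 hsup
  refine ⟨T'', T''.ι ≫ g' ≫ g, inferInstance, ⟨⟨pt qT', ht⟩, ?_⟩, 𝒰.glueMorphisms τ ?_, ?_⟩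
  · show g (g' (pt qT')) = y
    rw [← pt_comp, hqT', ← pt_comp, hqT]
    exact hq
  · intro p p'
    by_cases hpp : p = p'
    · subst hpp
      exact congrArg (· ≫ τ p) ((cancel_mono (𝒱 p).ι).1 pullback.condition)
    · haveI : IsEmpty ↑(pullback (𝒰.f p) (𝒰.f p')) := ⟨fun z => by
        have h1 := congrArg (fun k => k z) (pullback.condition (f := 𝒰.f p) (g := 𝒰.f p'))
        exact (hdisj p p' hpp).le_bot ⟨(pullback.fst (𝒰.f p) (𝒰.f p') z).2.1,
          by
            have h2 := (pullback.snd (𝒰.f p) (𝒰.f p') z).2.1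
            simp only [Scheme.Hom.comp_apply] at h1
            exact Eq.mpr (congrArg (fun w => e w ∈ V' p') h1) h2⟩⟩
      exact (isInitialOfIsEmpty).hom_ext _ _
  · refine 𝒰.hom_ext _ _ fun p => ?_
    rw [Scheme.Cover.ι_glueMorphisms_assoc]
    exact hτ p

end Groth.Agent.EtFinRefine
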