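import Groth.Prelude.Def_NonAbH2
import Mathlib

/-!
Torsors under smooth groups are smooth and surjective.
-/

set_option autoImplicit false
set_option backward.isDefEq.respectTransparency false
set_option backward.isDefEq.respectTransparency.types false
set_option linter.style.haveILetI false

universe u

open CategoryTheory CategoryTheory.Limits MonoidalCategory CartesianMonoidalCategory MonObj AlgebraicGeometry

noncomputable section

namespace Groth.Agent.EtFinRefine

variable {S : Scheme.{u}} {G X : Over S} [GrpObj G]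

theorem exists_trivialising (R : Presieve S) (hR : R ∈ Scheme.fppfPrecoverage S)
    (hsec : ∀ ⦃S' : Scheme.{u}⦄ (f : S' ⟶ S), R f → NonAbH1.HasSectionOver X f) :
    ∃ (C : Over S) (_ : Surjective C.hom) (_ : Flat C.hom) (_ : LocallyOfFinitePresentation C.hom),
      Nonempty (C ⟶ X) := by
  obtain ⟨I, Y', f', rfl⟩ := R.exists_eq_ofArrows
  have hR' : Presieve.ofArrows Y' f' ∈ Scheme.precoverage (@Flat ⊓ @LocallyOfFinitePresentation) S := hR
  rw [Scheme.ofArrows_mem_precoverage_iff] at hR'
  choose idx hz using hR'.1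
  let Y : S → Scheme.{u} := fun x => Y' (idx x)
  let f : ∀ x, Y x ⟶ S := fun x => f' (idx x)
  have hf : ∀ x, Presieve.ofArrows Y' f' (f x) := fun x => ⟨idx x⟩
  haveI : ∀ x, Flat (f x) := fun x => (hR'.2 (idx x)).1
  haveI : ∀ x, LocallyOfFinitePresentation (f x) := fun x => (hR'.2 (idx x)).2
  choose s hs using fun x => hsec (f x) (hf x)
  refine ⟨Over.mk (Sigma.desc f), ⟨fun x => ?_⟩, ?_, ?_,
    ⟨Over.homMk (Sigma.desc s) (Sigma.hom_ext _ _ fun x => by
      simp only [Over.mk_hom, Sigma.ι_desc_assoc, Sigma.ι_desc]; exact hs x)⟩⟩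
  · obtain ⟨z, hz⟩ := hz x
    exact ⟨Sigma.ι Y x z, by show Sigma.desc f (Sigma.ι Y x z) = x; rw [← Scheme.Hom.comp_apply, Sigma.ι_desc]; exact hz⟩
  · exact IsZariskiLocalAtSource.sigmaDesc fun x => inferInstance
  · exact IsZariskiLocalAtSource.sigmaDesc fun x => inferInstance

theorem isIso_trivialisation (a : AlgGrp.Action G X) (ha : NonAbH1.IsPseudoTorsorSch a) {C : Over S} (s : C ⟶ X) :
    IsIso (lift (lift (fst G C) (snd G C ≫ s) ≫ a.act) (snd G C) : G ⊗ C ⟶ X ⊗ C) := by
  haveI : IsIso (lift a.act (snd G X)) := ha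
  let j : X ⊗ C ⟶ G ⊗ X := lift (fst X C) (snd X C ≫ s) ≫ inv (lift a.act (snd G X))
  have h1 : j ≫ a.act = fst X C := by
    have := congrArg (· ≫ fst X X) (show j ≫ lift a.act (snd G X) = lift (fst X C) (snd X C ≫ s) by
      rw [Category.assoc, IsIso.inv_hom_id, Category.comp_id])
    simpa using this
  have h2 : j ≫ snd G X = snd X C ≫ s := by
    have := congrArg (· ≫ snd X X) (show j ≫ lift a.act (snd G X) = lift (fst X C) (snd X C ≫ s) by
      rw [Category.assoc, IsIso.inv_hom_id, Category.comp_id])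
    simpa using this
  refine ⟨⟨lift (j ≫ fst G X) (snd X C), ?_, ?_⟩⟩
  · have h3 : lift (lift (fst G C) (snd G C ≫ s) ≫ a.act) (snd G C) ≫ j = lift (fst G C) (snd G C ≫ s) := by
      rw [← cancel_mono (lift a.act (snd G X)), Category.assoc,
        show j ≫ lift a.act (snd G X) = lift (fst X C) (snd X C ≫ s) by
          rw [Category.assoc, IsIso.inv_hom_id, Category.comp_id]]
      simp
    apply hom_ext
    · rw [Category.assoc, lift_fst, ← Category.assoc, h3]
      simp
    · simp
  · apply hom_ext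
    · rw [Category.assoc, lift_fst, ← Category.assoc, comp_lift, lift_fst, lift_snd_assoc,
        show lift (j ≫ fst G X) (snd X C ≫ s) = j by rw [← h2, ← comp_lift, lift_fst_snd, Category.comp_id]]
      simpa using h1
    · simp

theorem smooth_of_torsor [Smooth G.hom] (a : AlgGrp.Action G X) (ha : NonAbH1.IsPseudoTorsorSch a) (R : Presieve S)
    (hR : R ∈ Scheme.fppfPrecoverage S)
    (hsec : ∀ ⦃S' : Scheme.{u}⦄ (f : S' ⟶ S), R f → NonAbH1.HasSectionOver X f) : Smooth X.hom := by
  obtain ⟨C, _, _, _, ⟨s⟩⟩ := exists_trivialising R hR hsec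
  haveI := isIso_trivialisation a ha s
  let Φ : G ⊗ C ⟶ X ⊗ C := lift (lift (fst G C) (snd G C ≫ s) ≫ a.act) (snd G C)
  haveI : IsIso Φ.left := inferInstanceAs (IsIso ((Over.forget S).map Φ))
  have h1 : Smooth (snd G C).left := by
    rw [Over.snd_left]
    exact MorphismProperty.pullback_snd _ _ inferInstance
  have h2 : Φ.left ≫ (snd X C).left = (snd G C).left := by
    rw [← Over.comp_left, lift_snd]
  rw [← h2, MorphismProperty.cancel_left_of_respectsIso @Smooth, Over.snd_left] at h1
  exact MorphismProperty.of_pullback_snd_of_descendsAlong (P := @Smooth)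
    (Q := @Surjective ⊓ @Flat ⊓ @LocallyOfFinitePresentation) (f := X.hom) (g := C.hom)
    ⟨⟨inferInstance, inferInstance⟩, inferInstance⟩ h1

theorem surjective_of_torsor (R : Presieve S) (hR : R ∈ Scheme.fppfPrecoverage S)
    (hsec : ∀ ⦃S' : Scheme.{u}⦄ (f : S' ⟶ S), R f → NonAbH1.HasSectionOver X f) :
    Function.Surjective X.hom := by
  obtain ⟨C, hC, _, _, ⟨s⟩⟩ := exists_trivialising R hR hsec
  intro x
  obtain ⟨c, rfl⟩ := C.hom.surjective x
  exact ⟨s.left c, by rw [← Scheme.Hom.comp_apply, Over.w s]⟩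

end Groth.Agent.EtFinRefine
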